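import Cfsg.Agent.Lib.Helper9.TCData.S62P0.Main

set_option autoImplicit false
set_option maxRecDepth 1000000

namespace Cfsg.Agent.Helper9.TCData.S62P0
open Cfsg.Agent.Helper9.TC2 Cfsg.Agent.Helper9.LTC Cfsg.Agent.Helper9.LTCM Cfsg.Agent.Helper9.LTCP Cfsg.Agent.Helper9.TCData

theorem rot_src : chkRotSrcP tab relWords relLabs rotSrc = true := by decide +kernel

theorem rel_0 : relVecM 144 tab 110 80468 [Int.ofNat 7, Int.ofNat 11, Int.ofNat 39, Int.ofNat 37, Int.ofNat 101, Int.ofNat 31, Int.ofNat 68, Int.ofNat 143, Int.ofNat 80, Int.ofNat 42, Int.ofNat 49, Int.ofNat 13] = true := by decide +kernel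

theorem rel_1 : relVecM 144 tab 137 112137 [Int.ofNat 12, Int.ofNat 31, Int.ofNat 104, Int.ofNat 140, Int.ofNat 131, Int.ofNat 93, Int.ofNat 116, Int.ofNat 62, Int.ofNat 64, Int.ofNat 24, Int.ofNat 109, Int.ofNat 62] = true := by decide +kernel

theorem rel_2 : relVecM 144 tab 133 103667 [Int.ofNat 54, Int.ofNat 119, Int.ofNat 19, Int.ofNat 89, Int.ofNat 37, Int.ofNat 16, Int.ofNat 0, Int.ofNat 77, Int.ofNat 7, Int.ofNat 18, Int.ofNat 69, Int.ofNat 91] = true := by decide +kernel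

theorem rel_3 : relVecM 144 tab 133 170842 [Int.ofNat 125, Int.ofNat 111, Int.ofNat 60, Int.ofNat 5, Int.ofNat 123, Int.ofNat 85, Int.ofNat 19, Int.ofNat 26, Int.ofNat 83, Int.ofNat 80, Int.ofNat 35, Int.ofNat 49] = true := by decide +kernel

theorem rel_4 : relVecM 144 tab 109 102153 [Int.ofNat 77, Int.ofNat 92, Int.ofNat 133, Int.ofNat 52, Int.ofNat 106, Int.ofNat 129, Int.ofNat 25, Int.ofNat 62, Int.ofNat 38, Int.ofNat 23, Int.ofNat 48, Int.ofNat 104] = true := by decide +kernel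

theorem rel_5 : relVecM 144 tab 137 150038 [Int.ofNat 131, Int.ofNat 60, Int.ofNat 60, Int.ofNat 28, Int.ofNat 120, Int.ofNat 121, Int.ofNat 61, Int.ofNat 77, Int.ofNat 67, Int.ofNat 21, Int.ofNat 42, Int.ofNat 106] = true := by decide +kernel

theorem rel_6 : relVecM 144 tab 113 61937 [Int.ofNat 17, Int.ofNat 4, Int.ofNat 70, Int.ofNat 25, Int.ofNat 45, Int.ofNat 45, Int.ofNat 89, Int.ofNat 99, Int.ofNat 48, Int.ofNat 19, Int.ofNat 86, Int.ofNat 74] = true := by decide +kernel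

theorem rel_7 : relVecM 144 tab 137 55389 [Int.ofNat 95, Int.ofNat 138, Int.ofNat 106, Int.ofNat 52, Int.ofNat 104, Int.ofNat 134, Int.ofNat 21, Int.ofNat 50, Int.ofNat 134, Int.ofNat 129, Int.ofNat 52, Int.ofNat 10] = true := by decide +kernel

theorem rel_8 : relVecM 144 tab 137 67465 [Int.ofNat 35, Int.ofNat 116, Int.ofNat 39, Int.ofNat 46, Int.ofNat 101, Int.ofNat 64, Int.ofNat 94, Int.ofNat 41, Int.ofNat 2, Int.ofNat 43, Int.ofNat 1, Int.ofNat 125] = true := by decide +kernel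

theorem rel_9 : relVecM 144 tab 111 77700 [Int.ofNat 15, Int.ofNat 63, Int.ofNat 115, Int.ofNat 62, Int.ofNat 109, Int.ofNat 140, Int.ofNat 77, Int.ofNat 130, Int.ofNat 114, Int.ofNat 64, Int.ofNat 96, Int.ofNat 120] = true := by decide +kernel

theorem rel_10 : relVecM 144 tab 131 89432 [Int.ofNat 6, Int.ofNat 124, Int.ofNat 9, Int.ofNat 124, Int.ofNat 136, Int.ofNat 108, Int.ofNat 108, Int.ofNat 72, Int.ofNat 11, Int.ofNat 72, Int.ofNat 30, Int.ofNat 18] = true := by decide +kernel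

theorem rel_11 : relVecM 144 tab 100 55621 [Int.ofNat 104, Int.ofNat 66, Int.ofNat 52, Int.ofNat 109, Int.ofNat 69, Int.ofNat 114, Int.ofNat 83, Int.ofNat 14, Int.ofNat 123, Int.ofNat 103, Int.ofNat 116, Int.ofNat 70] = true := by decide +kernel

/-- The relation vectors. -/
def rhos : List (List ℤ) := [[Int.ofNat 7, Int.ofNat 11, Int.ofNat 39, Int.ofNat 37, Int.ofNat 101, Int.ofNat 31, Int.ofNat 68, Int.ofNat 143, Int.ofNat 80, Int.ofNat 42, Int.ofNat 49, Int.ofNat 13],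
  [Int.ofNat 12, Int.ofNat 31, Int.ofNat 104, Int.ofNat 140, Int.ofNat 131, Int.ofNat 93, Int.ofNat 116, Int.ofNat 62, Int.ofNat 64, Int.ofNat 24, Int.ofNat 109, Int.ofNat 62],
  [Int.ofNat 54, Int.ofNat 119, Int.ofNat 19, Int.ofNat 89, Int.ofNat 37, Int.ofNat 16, Int.ofNat 0, Int.ofNat 77, Int.ofNat 7, Int.ofNat 18, Int.ofNat 69, Int.ofNat 91],
  [Int.ofNat 125, Int.ofNat 111, Int.ofNat 60, Int.ofNat 5, Int.ofNat 123, Int.ofNat 85, Int.ofNat 19, Int.ofNat 26, Int.ofNat 83, Int.ofNat 80, Int.ofNat 35, Int.ofNat 49],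
  [Int.ofNat 77, Int.ofNat 92, Int.ofNat 133, Int.ofNat 52, Int.ofNat 106, Int.ofNat 129, Int.ofNat 25, Int.ofNat 62, Int.ofNat 38, Int.ofNat 23, Int.ofNat 48, Int.ofNat 104],
  [Int.ofNat 131, Int.ofNat 60, Int.ofNat 60, Int.ofNat 28, Int.ofNat 120, Int.ofNat 121, Int.ofNat 61, Int.ofNat 77, Int.ofNat 67, Int.ofNat 21, Int.ofNat 42, Int.ofNat 106],
  [Int.ofNat 17, Int.ofNat 4, Int.ofNat 70, Int.ofNat 25, Int.ofNat 45, Int.ofNat 45, Int.ofNat 89, Int.ofNat 99, Int.ofNat 48, Int.ofNat 19, Int.ofNat 86, Int.ofNat 74],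
  [Int.ofNat 95, Int.ofNat 138, Int.ofNat 106, Int.ofNat 52, Int.ofNat 104, Int.ofNat 134, Int.ofNat 21, Int.ofNat 50, Int.ofNat 134, Int.ofNat 129, Int.ofNat 52, Int.ofNat 10],
  [Int.ofNat 35, Int.ofNat 116, Int.ofNat 39, Int.ofNat 46, Int.ofNat 101, Int.ofNat 64, Int.ofNat 94, Int.ofNat 41, Int.ofNat 2, Int.ofNat 43, Int.ofNat 1, Int.ofNat 125],
  [Int.ofNat 15, Int.ofNat 63, Int.ofNat 115, Int.ofNat 62, Int.ofNat 109, Int.ofNat 140, Int.ofNat 77, Int.ofNat 130, Int.ofNat 114, Int.ofNat 64, Int.ofNat 96, Int.ofNat 120],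
  [Int.ofNat 6, Int.ofNat 124, Int.ofNat 9, Int.ofNat 124, Int.ofNat 136, Int.ofNat 108, Int.ofNat 108, Int.ofNat 72, Int.ofNat 11, Int.ofNat 72, Int.ofNat 30, Int.ofNat 18],
  [Int.ofNat 104, Int.ofNat 66, Int.ofNat 52, Int.ofNat 109, Int.ofNat 69, Int.ofNat 114, Int.ofNat 83, Int.ofNat 14, Int.ofNat 123, Int.ofNat 103, Int.ofNat 116, Int.ofNat 70]]

/-- Every relation vector is the relation of a closed path. -/
theorem rel_all : ∀ ρ ∈ rhos, ∃ i s, s < tab.n ∧ relVecM 144 tab i s ρ = true := by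
  intro ρ hρ
  simp only [rhos, List.mem_cons, List.not_mem_nil, or_false] at hρ
  rcases hρ with rfl | rfl | rfl | rfl | rfl | rfl | rfl | rfl | rfl | rfl | rfl | rfl
  · exact ⟨_, _, by decide +kernel, rel_0⟩
  · exact ⟨_, _, by decide +kernel, rel_1⟩
  · exact ⟨_, _, by decide +kernel, rel_2⟩
  · exact ⟨_, _, by decide +kernel, rel_3⟩
  · exact ⟨_, _, by decide +kernel, rel_4⟩
  · exact ⟨_, _, by decide +kernel, rel_5⟩
  · exact ⟨_, _, by decide +kernel, rel_6⟩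
  · exact ⟨_, _, by decide +kernel, rel_7⟩
  · exact ⟨_, _, by decide +kernel, rel_8⟩
  · exact ⟨_, _, by decide +kernel, rel_9⟩
  · exact ⟨_, _, by decide +kernel, rel_10⟩
  · exact ⟨_, _, by decide +kernel, rel_11⟩

end Cfsg.Agent.Helper9.TCData.S62P0
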