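import Cfsg.Agent.Lib.Helper9.TCData.S62P0.Main

set_option autoImplicit false
set_option maxRecDepth 1000000

namespace Cfsg.Agent.Helper9.TCData.S62P0
open Cfsg.Agent.Helper9.TC2 Cfsg.Agent.Helper9.LTC Cfsg.Agent.Helper9.LTCM Cfsg.Agent.Helper9.LTCP Cfsg.Agent.Helper9.TCData

theorem e0_32768 : allRange 32768 4096 (fun x => chkEntP ptab 0 x) = true := by decide +kernel

theorem e0_36864 : allRange 36864 4096 (fun x => chkEntP ptab 0 x) = true := by decide +kernel

theorem e0_40960 : allRange 40960 4096 (fun x => chkEntP ptab 0 x) = true := by decide +kernel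

theorem e0_45056 : allRange 45056 4096 (fun x => chkEntP ptab 0 x) = true := by decide +kernel

theorem e0_49152 : allRange 49152 4096 (fun x => chkEntP ptab 0 x) = true := by decide +kernel

theorem e0_53248 : allRange 53248 4096 (fun x => chkEntP ptab 0 x) = true := by decide +kernel

theorem e0_57344 : allRange 57344 4096 (fun x => chkEntP ptab 0 x) = true := by decide +kernel

theorem e0_61440 : allRange 61440 4096 (fun x => chkEntP ptab 0 x) = true := by decide +kernel

end Cfsg.Agent.Helper9.TCData.S62P0
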