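import Cfsg.Agent.Lib.Helper9.TCData.S62P0.S0
import Cfsg.Agent.Lib.Helper9.TCData.S62P0.S1
import Cfsg.Agent.Lib.Helper9.TCData.S62P0.S2
import Cfsg.Agent.Lib.Helper9.TCData.S62P0.S3
import Cfsg.Agent.Lib.Helper9.TCData.S62P0.S4
import Cfsg.Agent.Lib.Helper9.TCData.S62P0.S5
import Cfsg.Agent.Lib.Helper9.TCData.S62P0.S6
import Cfsg.Agent.Lib.Helper9.TCData.S62P0.S7
import Cfsg.Agent.Lib.Helper9.TCData.S62P0.S8
import Cfsg.Agent.Lib.Helper9.TCData.S62P0.S9
import Cfsg.Agent.Lib.Helper9.TCData.S62P0.S10
import Cfsg.Agent.Lib.Helper9.TCData.S62P0.S11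
import Cfsg.Agent.Lib.Helper9.TCData.S62P0.S12
import Cfsg.Agent.Lib.Helper9.TCData.S62P0.S13
import Cfsg.Agent.Lib.Helper9.TCData.S62P0.S14
import Cfsg.Agent.Lib.Helper9.TCData.S62P0.S15
import Cfsg.Agent.Lib.Helper9.TCData.S62P0.S16
import Cfsg.Agent.Lib.Helper9.TCData.S62P0.S17
import Cfsg.Agent.Lib.Helper9.TCData.S62P0.S18
import Cfsg.Agent.Lib.Helper9.TCData.S62P0.S19
import Cfsg.Agent.Lib.Helper9.TCData.S62P0.S20
import Cfsg.Agent.Lib.Helper9.TCData.S62P0.S21
import Cfsg.Agent.Lib.Helper9.TCData.S62P0.S22
import Cfsg.Agent.Lib.Helper9.TCData.S62P0.S23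
import Cfsg.Agent.Lib.Helper9.TCData.S62P0.S24
import Cfsg.Agent.Lib.Helper9.TCData.S62P0.S25
import Cfsg.Agent.Lib.Helper9.TCData.S62P0.Rel

set_option autoImplicit false
set_option maxRecDepth 1000000

namespace Cfsg.Agent.Helper9.TCData.S62P0
open Cfsg.Agent.Helper9.TC2 Cfsg.Agent.Helper9.LTC Cfsg.Agent.Helper9.LTCM Cfsg.Agent.Helper9.LTCP Cfsg.Agent.Helper9.TCData

theorem hP0_0 : ∀ x < 131072, chkEntP ptab 0 x = true :=
  (ext_range (ext_range (ext_range (ext_range (ext_range (ext_range (ext_range (ext_range (ext_range (ext_range (ext_range (ext_range (ext_range (ext_range (ext_range (ext_range (ext_range (ext_range (ext_range (ext_range (ext_range (ext_range (ext_range (ext_range (ext_range (ext_range (ext_range (ext_range (ext_range (ext_range (ext_range (ext_range range_zero e0_0) e0_4096) e0_8192) e0_12288) e0_16384) e0_20480) e0_24576) e0_28672) e0_32768) e0_36864) e0_40960) e0_45056) e0_49152) e0_53248) e0_57344) e0_61440) e0_65536) e0_69632) e0_73728) e0_77824) e0_81920) e0_86016) e0_90112) e0_94208) e0_98304) e0_102400) e0_106496)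 e0_110592) e0_114688) e0_118784) e0_122880) e0_126976)

theorem hP0_1 : ∀ x < 207360, chkEntP ptab 0 x = true :=
  (ext_range (ext_range (ext_range (ext_range (ext_range (ext_range (ext_range (ext_range (ext_range (ext_range (ext_range (ext_range (ext_range (ext_range (ext_range (ext_range (ext_range (ext_range (ext_range hP0_0 e0_131072) e0_135168) e0_139264) e0_143360) e0_147456) e0_151552) e0_155648) e0_159744) e0_163840) e0_167936) e0_172032) e0_176128) e0_180224) e0_184320) e0_188416) e0_192512) e0_196608) e0_200704) e0_204800)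

theorem hP0 : ∀ x < ptab.n, chkEntP ptab 0 x = true := hP0_1

theorem hP1_0 : ∀ x < 131072, chkEntP ptab 1 x = true :=
  (ext_range (ext_range (ext_range (ext_range (ext_range (ext_range (ext_range (ext_range (ext_range (ext_range (ext_range (ext_range (ext_range (ext_range (ext_range (ext_range (ext_range (ext_range (ext_range (ext_range (ext_range (ext_range (ext_range (ext_range (ext_range (ext_range (ext_range (ext_range (ext_range (ext_range (ext_range (ext_range range_zero e1_0) e1_4096) e1_8192) e1_12288) e1_16384) e1_20480) e1_24576) e1_28672) e1_32768) e1_36864) e1_40960) e1_45056) e1_49152) e1_53248) e1_57344) e1_61440) e1_65536) e1_69632) e1_73728) e1_77824) e1_81920) e1_86016) e1_90112) e1_94208) e1_98304) e1_102400) e1_106496) e1_110592) e1_114688) e1_118784) e1_122880) e1_126976)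

theorem hP1_1 : ∀ x < 207360, chkEntP ptab 1 x = true :=
  (ext_range (ext_range (ext_range (ext_range (ext_range (ext_range (ext_range (ext_range (ext_range (ext_range (ext_range (ext_range (ext_range (ext_range (ext_range (ext_range (ext_range (ext_range (ext_range hP1_0 e1_131072) e1_135168) e1_139264) e1_143360) e1_147456) e1_151552) e1_155648) e1_159744) e1_163840) e1_167936) e1_172032) e1_176128) e1_180224) e1_184320) e1_188416) e1_192512) e1_196608) e1_200704) e1_204800)

theorem hP1 : ∀ x < ptab.n, chkEntP ptab 1 x = true := hP1_1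

theorem hP2_0 : ∀ x < 131072, chkEntP ptab 2 x = true :=
  (ext_range (ext_range (ext_range (ext_range (ext_range (ext_range (ext_range (ext_range (ext_range (ext_range (ext_range (ext_range (ext_range (ext_range (ext_range (ext_range (ext_range (ext_range (ext_range (ext_range (ext_range (ext_range (ext_range (ext_range (ext_range (ext_range (ext_range (ext_range (ext_range (ext_range (ext_range (ext_range range_zero e2_0) e2_4096) e2_8192) e2_12288) e2_16384) e2_20480) e2_24576) e2_28672) e2_32768) e2_36864) e2_40960) e2_45056) e2_49152) e2_53248) e2_57344) e2_61440) e2_65536) e2_69632) e2_73728) e2_77824) e2_81920) e2_86016) e2_90112) e2_94208) e2_98304) e2_102400) e2_106496) e2_110592) e2_114688) e2_118784) e2_122880) e2_126976)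

theorem hP2_1 : ∀ x < 207360, chkEntP ptab 2 x = true :=
  (ext_range (ext_range (ext_range (ext_range (ext_range (ext_range (ext_range (ext_range (ext_range (ext_range (ext_range (ext_range (ext_range (ext_range (ext_range (ext_range (ext_range (ext_range (ext_range hP2_0 e2_131072) e2_135168) e2_139264) e2_143360) e2_147456) e2_151552) e2_155648) e2_159744) e2_163840) e2_167936) e2_172032) e2_176128) e2_180224) e2_184320) e2_188416) e2_192512) e2_196608) e2_200704) e2_204800)

theorem hP2 : ∀ x < ptab.n, chkEntP ptab 2 x = true := hP2_1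

theorem hP3_0 : ∀ x < 131072, chkEntP ptab 3 x = true :=
  (ext_range (ext_range (ext_range (ext_range (ext_range (ext_range (ext_range (ext_range (ext_range (ext_range (ext_range (ext_range (ext_range (ext_range (ext_range (ext_range (ext_range (ext_range (ext_range (ext_range (ext_range (ext_range (ext_range (ext_range (ext_range (ext_range (ext_range (ext_range (ext_range (ext_range (ext_range (ext_range range_zero e3_0) e3_4096) e3_8192) e3_12288) e3_16384) e3_20480) e3_24576) e3_28672) e3_32768) e3_36864) e3_40960) e3_45056) e3_49152) e3_53248) e3_57344) e3_61440) e3_65536) e3_69632) e3_73728) e3_77824) e3_81920) e3_86016) e3_90112) e3_94208) e3_98304) e3_102400) e3_106496) e3_110592) e3_114688) e3_118784) e3_122880) e3_126976)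

theorem hP3_1 : ∀ x < 207360, chkEntP ptab 3 x = true :=
  (ext_range (ext_range (ext_range (ext_range (ext_range (ext_range (ext_range (ext_range (ext_range (ext_range (ext_range (ext_range (ext_range (ext_range (ext_range (ext_range (ext_range (ext_range (ext_range hP3_0 e3_131072) e3_135168) e3_139264) e3_143360) e3_147456) e3_151552) e3_155648) e3_159744) e3_163840) e3_167936) e3_172032) e3_176128) e3_180224) e3_184320) e3_188416) e3_192512) e3_196608) e3_200704) e3_204800)

theorem hP3 : ∀ x < ptab.n, chkEntP ptab 3 x = true := hP3_1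

theorem hP : ∀ c < ptab.k, ∀ x < ptab.n, chkEntP ptab c x = true := by
  intro c hc
  have hc' : c < 4 := hc
  interval_cases c
  · exact hP0
  · exact hP1
  · exact hP2
  · exact hP3

theorem hE : ∀ c < tab.k, ∀ x < tab.n, chkEntM 144 tab c x = true :=
  fun c hc x hx => chkEntM_of_chkEntP ptab_ok (hP c hc x hx)

theorem h0 : tab.rk 0 = 0 := rfl

end Cfsg.Agent.Helper9.TCData.S62P0
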