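import Cfsg.Agent.Lib.Helper9.TCData.S62P0.Rel

set_option autoImplicit false
set_option maxRecDepth 1000000

namespace Cfsg.Agent.Helper9.TCData.S62P0
open Cfsg.Agent.Helper9.TC2 Cfsg.Agent.Helper9.LTC Cfsg.Agent.Helper9.LTCM Cfsg.Agent.Helper9.LTCP

/-- The coefficients of the combinations of the relation vectors. -/
def combs : List (List ℤ) := [[Int.ofNat 134, Int.ofNat 140, Int.ofNat 140, Int.ofNat 86, Int.ofNat 136, Int.ofNat 7, Int.ofNat 29, Int.ofNat 17, Int.ofNat 24, Int.ofNat 92, Int.ofNat 46, Int.ofNat 23],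
  [Int.ofNat 87, Int.ofNat 52, Int.ofNat 47, Int.ofNat 58, Int.ofNat 103, Int.ofNat 143, Int.ofNat 33, Int.ofNat 30, Int.ofNat 58, Int.ofNat 72, Int.ofNat 143, Int.ofNat 79],
  [Int.ofNat 36, Int.ofNat 132, Int.ofNat 117, Int.ofNat 88, Int.ofNat 2, Int.ofNat 42, Int.ofNat 142, Int.ofNat 32, Int.ofNat 3, Int.ofNat 113, Int.ofNat 4, Int.ofNat 21],
  [Int.ofNat 21, Int.ofNat 110, Int.ofNat 68, Int.ofNat 7, Int.ofNat 133, Int.ofNat 103, Int.ofNat 96, Int.ofNat 131, Int.ofNat 32, Int.ofNat 127, Int.ofNat 17, Int.ofNat 83],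
  [Int.ofNat 115, Int.ofNat 138, Int.ofNat 111, Int.ofNat 107, Int.ofNat 49, Int.ofNat 130, Int.ofNat 21, Int.ofNat 53, Int.ofNat 21, Int.ofNat 140, Int.ofNat 22, Int.ofNat 40],
  [Int.ofNat 9, Int.ofNat 74, Int.ofNat 80, Int.ofNat 56, Int.ofNat 114, Int.ofNat 59, Int.ofNat 9, Int.ofNat 19, Int.ofNat 15, Int.ofNat 43, Int.ofNat 117, Int.ofNat 106],
  [Int.ofNat 66, Int.ofNat 54, Int.ofNat 73, Int.ofNat 119, Int.ofNat 142, Int.ofNat 44, Int.ofNat 45, Int.ofNat 68, Int.ofNat 34, Int.ofNat 130, Int.ofNat 39, Int.ofNat 133],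
  [Int.ofNat 25, Int.ofNat 116, Int.ofNat 127, Int.ofNat 90, Int.ofNat 30, Int.ofNat 76, Int.ofNat 103, Int.ofNat 8, Int.ofNat 52, Int.ofNat 80, Int.ofNat 36, Int.ofNat 71],
  [Int.ofNat 7, Int.ofNat 104, Int.ofNat 92, Int.ofNat 54, Int.ofNat 95, Int.ofNat 47, Int.ofNat 27, Int.ofNat 88, Int.ofNat 131, Int.ofNat 123, Int.ofNat 92, Int.ofNat 60],
  [Int.ofNat 46, Int.ofNat 32, Int.ofNat 37, Int.ofNat 113, Int.ofNat 116, Int.ofNat 69, Int.ofNat 76, Int.ofNat 80, Int.ofNat 86, Int.ofNat 76, Int.ofNat 69, Int.ofNat 40],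
  [Int.ofNat 30, Int.ofNat 19, Int.ofNat 109, Int.ofNat 93, Int.ofNat 117, Int.ofNat 59, Int.ofNat 26, Int.ofNat 94, Int.ofNat 16, Int.ofNat 21, Int.ofNat 71, Int.ofNat 108],
  [Int.ofNat 92, Int.ofNat 99, Int.ofNat 99, Int.ofNat 125, Int.ofNat 128, Int.ofNat 99, Int.ofNat 63, Int.ofNat 16, Int.ofNat 91, Int.ofNat 76, Int.ofNat 52, Int.ofNat 83]]

/-- The combinations: the central generators are powers of the generator `1`, of order 2. -/
def tgts : List (List ℤ) := [unitV 0, vsmul 2 (unitV 1), unitV 2, vsub (unitV 3) (unitV 1), vsub (unitV 4) (unitV 1), unitV 5, unitV 6, unitV 7, unitV 8, unitV 9, unitV 10, vsub (unitV 11) (unitV 1)]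

theorem comb_ok : ∀ i < 12, veqM 144 (vcomb (combs.getD i []) rhos) (tgts.getD i []) = true := by
  decide +kernel

end Cfsg.Agent.Helper9.TCData.S62P0
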