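import Cfsg.Agent.Lib.Helper9.LTCP
import Cfsg.Agent.Lib.Helper9.TCData.S62P0.P0
import Cfsg.Agent.Lib.Helper9.TCData.S62P0.P1
import Cfsg.Agent.Lib.Helper9.TCData.S62P0.P2
import Cfsg.Agent.Lib.Helper9.TCData.S62P0.P3
import Cfsg.Agent.Lib.Helper9.TCData.S62P0.P4

set_option autoImplicit false
set_option maxRecDepth 1000000

namespace Cfsg.Agent.Helper9.TCData.S62P0
open Cfsg.Agent.Helper9.TC2 Cfsg.Agent.Helper9.LTC Cfsg.Agent.Helper9.LTCM Cfsg.Agent.Helper9.LTCP Cfsg.Agent.Helper9.TCData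

/-- The rotated relators without their heads, reversed. -/
noncomputable def rotBT : WT := (WT.node 71 (WT.node 35 (WT.node 17 (WT.node 8 (WT.node 4 (WT.node 2 (WT.node 1 (WT.leaf [0, 0, 0, 0]) (WT.leaf [3, 1, 1, 3, 3, 0, 3, 1, 1, 3, 3])) (WT.node 3 (WT.leaf [0, 0, 3, 1, 1, 2, 0, 3, 1, 1, 3, 1, 1, 2, 0, 3]) (WT.leaf [0, 0, 2, 0, 3, 1, 1, 3, 1, 1, 2, 0, 3, 1, 1, 3]))) (WT.node 6 (WT.node 5 (WT.leaf [2, 1, 3, 3, 0, 3, 3, 0, 2, 0, 2, 2, 1, 1, 3, 3, 0]) (WT.leaf [2, 0, 3, 3, 1, 2, 0, 2, 0, 3, 1, 3, 1, 3, 3, 1, 2])) (WT.node 7 (WT.leaf [2, 1, 1, 3, 1, 3, 3, 1, 3, 1, 2, 1, 3, 1, 3]) (WT.leaf [3, 3, 1, 2, 1, 2, 0, 0, 3, 3, 1, 2, 1, 2, 0])))) (WT.node 12 (WT.node 10 (WT.node 9 (WT.leaf [0, 3, 3, 1, 2, 1, 2, 0, 0, 3, 3, 1, 2, 1, 2]) (WT.leaf [0, 2, 1, 3, 3, 0, 3, 3, 0, 2, 0, 2, 2, 1, 1, 3, 3])) (WT.node 11 (WT.leaf [3, 1,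 1, 3, 0, 0, 0, 2, 0, 3, 1, 1, 3, 1, 1, 2]) (WT.leaf [3, 1, 3, 1, 3, 3, 1, 2, 0, 2, 0, 3, 3, 1, 2, 0, 2]))) (WT.node 14 (WT.node 13 (WT.leaf [3, 1, 3, 3, 1, 1, 3, 0, 3, 1, 3, 3, 1, 1, 3]) (WT.leaf [2, 2, 1, 1, 3, 3, 0, 0, 2, 1, 3, 3, 0, 3, 3, 0, 2])) (WT.node 15 (WT.leaf [2, 1, 3, 1, 1, 3, 1, 3, 0, 2, 1, 3, 1, 1, 3, 1, 3]) (WT.node 16 (WT.leaf [0, 3, 3, 0, 3, 1, 1, 3, 3, 0, 3, 0]) (WT.leaf [0, 2, 0, 3, 1, 1, 3, 1, 1, 2, 0, 3, 1, 1, 3, 0])))))) (WT.node 26 (WT.node 21 (WT.node 19 (WT.node 18 (WT.leaf [2, 1, 3, 3, 1, 3, 0, 2, 0, 2, 1, 3, 3, 1, 3, 0, 2]) (WT.leaf [2, 0, 3, 1, 3, 1, 3, 3, 1, 2, 0, 2, 0, 3, 3, 1, 2])) (WT.node 20 (WT.leaf [3, 3, 1, 2, 0, 2, 0, 3, 1, 3, 1, 3, 3, 1, 2, 0, 2]) (WT.leaf [2, 0, 3, 1, 1, 3, 1, 1, 2, 0, 3, 1, 1, 3, 0, 0]))) (WT.node 23 (WT.node 22 (WT.leaf [3, 3, 0, 3, 1, 1, 3, 3, 0, 3, 0, 0])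 (WT.leaf [0, 3, 1, 1, 2, 0, 3, 1, 1, 3, 1, 1, 2, 0, 3, 0])) (WT.node 24 (WT.leaf [3, 3, 0, 2, 0, 2, 2, 1, 1, 3, 3, 0, 0, 2, 1, 3, 3]) (WT.node 25 (WT.leaf [2, 0, 2, 1, 3, 3, 1, 3, 0, 2, 0, 2, 1, 3, 3, 1, 3]) (WT.leaf [3, 1, 1, 3, 3, 0, 3, 0, 0, 0, 3, 3]))))) (WT.node 30 (WT.node 28 (WT.node 27 (WT.leaf [0, 0, 3, 3, 0, 3, 1, 1, 3, 3, 0, 3]) (WT.leaf [2, 0, 2, 2, 1, 1, 3, 3, 0, 0, 2, 1, 3, 3, 0, 3, 3])) (WT.node 29 (WT.leaf [3, 1, 1, 2, 0, 3, 1, 1, 3, 1, 1, 2, 0, 3, 0, 0]) (WT.leaf [3, 1, 1, 3, 1, 1, 2, 0, 3, 1, 1, 3, 0, 0, 0, 2]))) (WT.node 32 (WT.node 31 (WT.leaf [3, 0, 0, 0, 3, 3, 0, 3, 1, 1, 3, 3]) (WT.leaf [3, 0, 0, 0, 3, 1, 1, 2, 0, 3, 1, 1, 3, 1, 1, 2])) (WT.node 33 (WT.leaf [3, 1, 1, 3, 1, 1, 2, 0, 3, 0, 0, 0, 3, 1, 1, 2]) (WT.node 34 (WT.leaf [1, 3, 3, 0, 3, 1, 1, 3, 3, 0, 3]) (WT.leaf [3, 1, 3, 1, 3, 1, 3,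 1, 3, 1, 3]))))))) (WT.node 53 (WT.node 44 (WT.node 39 (WT.node 37 (WT.node 36 (WT.leaf [3, 3, 0, 3, 1, 1, 3, 3, 0, 3, 1]) (WT.leaf [3, 0, 2, 1, 1, 3, 1, 3, 3, 1, 3, 1, 2, 1, 3])) (WT.node 38 (WT.leaf [2, 0, 3, 1, 1, 3, 1, 1, 2, 0, 3, 0, 0, 0, 3, 1]) (WT.leaf [2, 0, 2, 0, 3, 1, 3, 1, 3, 3, 1, 2, 0, 2, 0, 3, 3]))) (WT.node 41 (WT.node 40 (WT.leaf [1, 2, 0, 3, 1, 1, 3, 0, 0, 0, 2, 0, 3, 1, 1, 3]) (WT.leaf [3, 3, 1, 3, 1, 2, 1, 3, 1, 3, 0, 2, 1, 1, 3])) (WT.node 42 (WT.leaf [1, 3, 0, 3, 1, 3, 3, 1, 1, 3, 0, 3, 1, 3, 3]) (WT.node 43 (WT.leaf [1, 3, 0, 0, 0, 2, 0, 3, 1, 1, 3, 1, 1, 2, 0, 3]) (WT.leaf [3, 1, 3, 3, 1, 3, 1, 2, 1, 3, 1, 3, 0, 2, 1]))))) (WT.node 48 (WT.node 46 (WT.node 45 (WT.leaf [2, 1, 3, 1, 3, 0, 2, 1, 1, 3, 1, 3, 3, 1, 3]) (WT.leaf [3, 1, 3, 0, 2, 1, 1, 3, 1, 3, 3, 1, 3, 1, 2])) (WT.node 47 (WT.leaf [1,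 3, 1, 1, 2, 0, 3, 1, 1, 3, 0, 0, 0, 2, 0, 3]) (WT.leaf [3, 3, 1, 2, 0, 2, 0, 3, 3, 1, 2, 0, 2, 0, 3, 1, 3]))) (WT.node 50 (WT.node 49 (WT.leaf [2, 0, 0, 3, 3, 1, 2, 1, 2, 0, 0, 3, 3, 1, 2]) (WT.leaf [2, 1, 2, 0, 0, 3, 3, 1, 2, 1, 2, 0, 0, 3, 3])) (WT.node 51 (WT.leaf [2, 0, 3, 1, 1, 3, 0, 0, 0, 2, 0, 3, 1, 1, 3, 1]) (WT.node 52 (WT.leaf [1, 3, 1, 3, 3, 1, 3, 1, 2, 1, 3, 1, 3, 0, 2]) (WT.leaf [3, 0, 3, 1, 3, 3, 1, 1, 3, 0, 3, 1, 3, 3, 1])))))) (WT.node 62 (WT.node 57 (WT.node 55 (WT.node 54 (WT.leaf [3, 0, 0, 0, 2, 0, 3, 1, 1, 3, 1, 1, 2, 0, 3, 1]) (WT.leaf [3, 1, 3, 3, 1, 2, 0, 2, 0, 3, 3, 1, 2, 0, 2, 0, 3])) (WT.node 56 (WT.leaf [3, 3, 1, 1, 3, 0, 3, 1, 3, 3, 1, 1, 3, 0, 3]) (WT.leaf [3, 1, 2, 1, 3, 1, 3, 0, 2, 1, 1, 3, 1, 3, 3]))) (WT.node 59 (WT.node 58 (WT.leaf [3, 1, 1, 2, 0, 3, 1, 1, 3, 0, 0, 0, 2, 0, 3, 1])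 (WT.leaf [1, 3, 3, 0, 0, 2, 1, 3, 3, 0, 3, 3, 0, 2, 0, 2, 2])) (WT.node 60 (WT.leaf [3, 0, 2, 1, 3, 1, 1, 3, 1, 3, 0, 2, 1, 3, 1, 1, 3]) (WT.node 61 (WT.leaf [2, 0, 2, 0, 3, 3, 1, 2, 0, 2, 0, 3, 1, 3, 1, 3, 3]) (WT.leaf [1, 3, 1, 3, 0, 2, 1, 3, 1, 1, 3, 1, 3, 0, 2, 1, 3]))))) (WT.node 66 (WT.node 64 (WT.node 63 (WT.leaf [3, 1, 1, 3, 1, 3, 0, 2, 1, 3, 1, 1, 3, 1, 3, 0, 2]) (WT.leaf [3, 3, 0, 0, 2, 1, 3, 3, 0, 3, 3, 0, 2, 0, 2, 2, 1])) (WT.node 65 (WT.leaf [3, 1, 1, 2, 0, 3, 0, 0, 0, 3, 1, 1, 2, 0, 3, 1]) (WT.leaf [1, 3, 1, 1, 2, 0, 3, 0, 0, 0, 3, 1, 1, 2, 0, 3]))) (WT.node 68 (WT.node 67 (WT.leaf [1, 2, 0, 3, 1, 1, 3, 1, 1, 2, 0, 3, 0, 0, 0, 3]) (WT.leaf [3, 0, 2, 0, 2, 1, 3, 3, 1, 3, 0, 2, 0, 2, 1, 3, 3])) (WT.node 69 (WT.leaf [3, 3, 1, 3, 0, 2, 0, 2, 1, 3, 3, 1, 3, 0, 2, 0, 2]) (WT.node 70 (WT.leaf [1, 3, 3, 0, 3,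 0, 0, 0, 3, 3, 0, 3]) (WT.leaf [3, 1, 3, 0, 2, 1, 3, 1, 1, 3, 1, 3, 0, 2, 1, 3, 1])))))))) (WT.node 107 (WT.node 89 (WT.node 80 (WT.node 75 (WT.node 73 (WT.node 72 (WT.leaf [3, 3, 0, 3, 3, 0, 2, 0, 2, 2, 1, 1, 3, 3, 0, 0, 2]) (WT.leaf [2, 0, 3, 0, 0, 0, 3, 1, 1, 2, 0, 3, 1, 1, 3, 1])) (WT.node 74 (WT.leaf [1, 2, 0, 3, 0, 0, 0, 3, 1, 1, 2, 0, 3, 1, 1, 3]) (WT.leaf [3, 3, 0, 3, 0, 0, 0, 3, 3, 0, 3, 1]))) (WT.node 77 (WT.node 76 (WT.leaf [2, 2, 2, 2, 2, 2]) (WT.leaf [0, 3, 1, 1, 3, 1, 1, 2, 0, 3, 1, 1, 3, 0, 0, 0])) (WT.node 78 (WT.leaf [0, 0, 3, 3, 1, 2, 1, 2, 0, 0, 3, 3, 1, 2, 1]) (WT.node 79 (WT.leaf [1, 1, 3, 3, 0, 0, 2, 1, 3, 3, 0, 3, 3, 0, 2, 0, 2]) (WT.leaf [1, 2, 0, 0, 3, 3, 1, 2, 1, 2, 0, 0, 3, 3, 1]))))) (WT.node 84 (WT.node 82 (WT.node 81 (WT.leaf [1, 1, 3, 1, 3, 3, 1, 3, 1, 2, 1, 3, 1, 3, 0]) (WT.leaf [0,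 3, 0, 0, 0, 3, 1, 1, 2, 0, 3, 1, 1, 3, 1, 1])) (WT.node 83 (WT.leaf [1, 3, 1, 1, 3, 1, 3, 0, 2, 1, 3, 1, 1, 3, 1, 3, 0]) (WT.leaf [2, 1, 1, 3, 3, 0, 0, 2, 1, 3, 3, 0, 3, 3, 0, 2, 0]))) (WT.node 86 (WT.node 85 (WT.leaf [0, 3, 1, 3, 1, 3, 3, 1, 2, 0, 2, 0, 3, 3, 1, 2, 0]) (WT.leaf [1, 3, 1, 3, 0, 2, 1, 1, 3, 1, 3, 3, 1, 3, 1])) (WT.node 87 (WT.leaf [0, 2, 1, 3, 3, 1, 3, 0, 2, 0, 2, 1, 3, 3, 1, 3, 0]) (WT.node 88 (WT.leaf [0, 2, 0, 3, 3, 1, 2, 0, 2, 0, 3, 1, 3, 1, 3, 3, 1]) (WT.leaf [1, 3, 3, 1, 3, 0, 2, 0, 2, 1, 3, 3, 1, 3, 0, 2, 0])))))) (WT.node 98 (WT.node 93 (WT.node 91 (WT.node 90 (WT.leaf [0, 2, 2, 1, 1, 3, 3, 0, 0, 2, 1, 3, 3, 0, 3, 3, 0]) (WT.leaf [0, 3, 3, 1, 2, 0, 2, 0, 3, 1, 3, 1, 3, 3, 1, 2, 0])) (WT.node 92 (WT.leaf [0, 2, 0, 3, 1, 3, 1, 3, 3, 1, 2, 0, 2, 0, 3, 3, 1]) (WT.leaf [0, 3, 1, 1, 3, 0, 0, 0, 2,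 0, 3, 1, 1, 3, 1, 1]))) (WT.node 95 (WT.node 94 (WT.leaf [1, 3, 3, 0, 3, 3, 0, 2, 0, 2, 2, 1, 1, 3, 3, 0, 0]) (WT.leaf [0, 3, 1, 1, 3, 1, 1, 2, 0, 3, 0, 0, 0, 3, 1, 1])) (WT.node 96 (WT.leaf [3, 0, 3, 1, 1, 3, 3, 0, 3, 1, 1]) (WT.node 97 (WT.leaf [1, 1, 3, 3, 0, 3, 1, 1, 3, 3, 0]) (WT.leaf [1, 3, 1, 3, 1, 3, 1, 3, 1, 3, 1]))))) (WT.node 102 (WT.node 100 (WT.node 99 (WT.leaf [3, 1, 1, 3, 0, 3, 1, 3, 3, 1, 1, 3, 0, 3, 1]) (WT.leaf [3, 1, 2, 1, 2, 0, 0, 3, 3, 1, 2, 1, 2, 0, 0])) (WT.node 101 (WT.leaf [1, 3, 1, 2, 1, 3, 1, 3, 0, 2, 1, 1, 3, 1, 3]) (WT.leaf [0, 3, 1, 3, 3, 1, 1, 3, 0, 3, 1, 3, 3, 1, 1]))) (WT.node 104 (WT.node 103 (WT.leaf [1, 1, 2, 0, 3, 1, 1, 3, 1, 1, 2, 0, 3, 0, 0, 0]) (WT.leaf [1, 1, 3, 0, 0, 0, 2, 0, 3, 1, 1, 3, 1, 1, 2, 0])) (WT.node 105 (WT.leaf [1, 2, 1, 3, 1, 3, 0, 2, 1, 1, 3, 1, 3, 3, 1]) (WT.node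 106 (WT.leaf [3, 1, 3, 0, 2, 0, 2, 1, 3, 3, 1, 3, 0, 2, 0, 2, 1]) (WT.leaf [1, 3, 3, 1, 1, 3, 0, 3, 1, 3, 3, 1, 1, 3, 0]))))))) (WT.node 125 (WT.node 116 (WT.node 111 (WT.node 109 (WT.node 108 (WT.leaf [0, 2, 0, 2, 2, 1, 1, 3, 3, 0, 0, 2, 1, 3, 3, 0, 3]) (WT.leaf [0, 2, 0, 2, 1, 3, 3, 1, 3, 0, 2, 0, 2, 1, 3, 3, 1])) (WT.node 110 (WT.leaf [0, 0, 2, 1, 3, 3, 0, 3, 3, 0, 2, 0, 2, 2, 1, 1, 3]) (WT.leaf [1, 2, 0, 2, 0, 3, 3, 1, 2, 0, 2, 0, 3, 1, 3, 1, 3]))) (WT.node 113 (WT.node 112 (WT.leaf [0, 2, 1, 3, 1, 1, 3, 1, 3, 0, 2, 1, 3, 1, 1, 3, 1]) (WT.leaf [0, 3, 3, 0, 2, 0, 2, 2, 1, 1, 3, 3, 0, 0, 2, 1, 3])) (WT.node 114 (WT.leaf [0, 3, 1, 1, 3, 3, 0, 3, 1, 1, 3]) (WT.node 115 (WT.leaf [3, 1, 3, 1, 2, 1, 3, 1, 3, 0, 2, 1, 1, 3, 1]) (WT.leaf [1, 3, 3, 1, 3, 1, 2, 1, 3, 1, 3, 0, 2, 1, 1]))))) (WT.node 120 (WT.node 118 (WT.node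 117 (WT.leaf [1, 3, 1, 3, 3, 1, 2, 0, 2, 0, 3, 3, 1, 2, 0, 2, 0]) (WT.leaf [3, 0, 2, 0, 2, 2, 1, 1, 3, 3, 0, 0, 2, 1, 3, 3, 0])) (WT.node 119 (WT.leaf [1, 3, 0, 2, 1, 1, 3, 1, 3, 3, 1, 3, 1, 2, 1]) (WT.leaf [3, 0, 3, 0, 0, 0, 3, 3, 0, 3, 1, 1]))) (WT.node 122 (WT.node 121 (WT.leaf [1, 1, 3, 1, 3, 0, 2, 1, 3, 1, 1, 3, 1, 3, 0, 2, 1]) (WT.leaf [3, 0, 3, 3, 0, 2, 0, 2, 2, 1, 1, 3, 3, 0, 0, 2, 1])) (WT.node 123 (WT.leaf [1, 2, 1, 2, 0, 0, 3, 3, 1, 2, 1, 2, 0, 0, 3]) (WT.node 124 (WT.leaf [1, 1, 2, 0, 3, 1, 1, 3, 0, 0, 0, 2, 0, 3, 1, 1]) (WT.leaf [1, 1, 3, 0, 3, 1, 3, 3, 1, 1, 3, 0, 3, 1, 3])))))) (WT.node 134 (WT.node 129 (WT.node 127 (WT.node 126 (WT.leaf [1, 1, 3, 1, 1, 2, 0, 3, 1, 1, 3, 0, 0, 0, 2, 0]) (WT.leaf [1, 3, 0, 2, 1, 3, 1, 1, 3, 1, 3, 0, 2, 1, 3, 1, 1])) (WT.node 128 (WT.leaf [3, 0, 0, 2, 1, 3, 3, 0, 3, 3,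 0, 2, 0, 2, 2, 1, 1]) (WT.leaf [3, 1, 2, 0, 2, 0, 3, 1, 3, 1, 3, 3, 1, 2, 0, 2, 0]))) (WT.node 131 (WT.node 130 (WT.leaf [3, 1, 2, 0, 2, 0, 3, 3, 1, 2, 0, 2, 0, 3, 1, 3, 1]) (WT.leaf [1, 3, 3, 1, 2, 0, 2, 0, 3, 3, 1, 2, 0, 2, 0, 3, 1])) (WT.node 132 (WT.leaf [1, 3, 0, 2, 0, 2, 1, 3, 3, 1, 3, 0, 2, 0, 2, 1, 3]) (WT.node 133 (WT.leaf [1, 2, 0, 2, 0, 3, 1, 3, 1, 3, 3, 1, 2, 0, 2, 0, 3]) (WT.leaf [0, 0, 0, 2, 0, 3, 1, 1, 3, 1, 1, 2, 0, 3, 1, 1]))))) (WT.node 138 (WT.node 136 (WT.node 135 (WT.leaf [0, 0, 0, 3, 3, 0, 3, 1, 1, 3, 3, 0]) (WT.leaf [0, 3, 1, 1, 3, 3, 0, 3, 0, 0, 0, 3])) (WT.node 137 (WT.leaf [0, 2, 1, 1, 3, 1, 3, 3, 1, 3, 1, 2, 1, 3, 1]) (WT.leaf [1, 1, 2, 0, 3, 0, 0, 0, 3, 1, 1, 2, 0, 3, 1, 1]))) (WT.node 140 (WT.node 139 (WT.leaf [1, 1, 3, 3, 0, 3, 0, 0, 0, 3, 3, 0]) (WT.leaf [1, 1, 3, 1, 1, 2, 0, 3, 0, 0,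 0, 3, 1, 1, 2, 0])) (WT.node 141 (WT.leaf [0, 3, 0, 0, 0, 3, 3, 0, 3, 1, 1, 3]) (WT.node 142 (WT.leaf [0, 0, 0, 3, 1, 1, 2, 0, 3, 1, 1, 3, 1, 1, 2, 0]) (WT.leaf [3, 0, 3, 1, 1, 3, 3, 0, 3, 0, 0, 0])))))))))

/-- The labels of the rotated relators, packed. -/
noncomputable def rotANT : BT := (BT.node 71 (BT.node 35 (BT.node 17 (BT.node 8 (BT.node 4 (BT.node 2 (BT.node 1 (BT.leaf 0) (BT.leaf 1)) (BT.node 3 (BT.leaf 316912650057057350374175801344) (BT.leaf 19342813113834066795298816))) (BT.node 6 (BT.node 5 (BT.leaf 85070591730234615865843651857942052864) (BT.leaf 5192296858534827628530496329220096)) (BT.node 7 (BT.leaf 4398046511104) (BT.leaf 1180591620717411303424)))) (BT.node 12 (BT.node 10 (BT.node 9 (BT.leaf 1180591620717411303424) (BT.leaf 85070591730234615865843651857942052864)) (BT.node 11 (BT.leaf 19342813113834066795298816)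 (BT.leaf 5192296858534827628530496329220096))) (BT.node 14 (BT.node 13 (BT.leaf 72057594037927936) (BT.leaf 85070591730234615865843651857942052864)) (BT.node 15 (BT.leaf 22835963083295358096932575511191922182123945984) (BT.node 16 (BT.leaf 268435456) (BT.leaf 19342813113834066795298816)))))) (BT.node 26 (BT.node 21 (BT.node 19 (BT.node 18 (BT.leaf 1393796574908163946345982392040522594123776) (BT.leaf 5192296858534827628530496329220096)) (BT.node 20 (BT.leaf 5192296858534827628530496329220096) (BT.leaf 19342813113834066795298816))) (BT.node 23 (BT.node 22 (BT.leaf 268435456) (BT.leaf 316912650057057350374175801344)) (BT.node 24 (BT.leaf 85070591730234615865843651857942052864) (BT.node 25 (BT.leaf 1393796574908163946345982392040522594123776) (BT.leaf 268435456))))) (BT.node 30 (BT.node 28 (BT.node 27 (BT.leaf 268435456)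 (BT.leaf 85070591730234615865843651857942052864)) (BT.node 29 (BT.leaf 316912650057057350374175801344) (BT.leaf 19342813113834066795298816))) (BT.node 32 (BT.node 31 (BT.leaf 268435456) (BT.leaf 316912650057057350374175801344)) (BT.node 33 (BT.leaf 316912650057057350374175801344) (BT.node 34 (BT.leaf 1) (BT.leaf 16384))))))) (BT.node 53 (BT.node 44 (BT.node 39 (BT.node 37 (BT.node 36 (BT.leaf 1) (BT.leaf 4398046511104)) (BT.node 38 (BT.leaf 316912650057057350374175801344) (BT.leaf 5192296858534827628530496329220096))) (BT.node 41 (BT.node 40 (BT.leaf 19342813113834066795298816) (BT.leaf 4398046511104)) (BT.node 42 (BT.leaf 72057594037927936) (BT.node 43 (BT.leaf 19342813113834066795298816) (BT.leaf 4398046511104))))) (BT.node 48 (BT.node 46 (BT.node 45 (BT.leaf 4398046511104) (BT.leaf 4398046511104)) (BT.node 47 (BT.leaf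 19342813113834066795298816) (BT.leaf 5192296858534827628530496329220096))) (BT.node 50 (BT.node 49 (BT.leaf 1180591620717411303424) (BT.leaf 1180591620717411303424)) (BT.node 51 (BT.leaf 19342813113834066795298816) (BT.node 52 (BT.leaf 4398046511104) (BT.leaf 72057594037927936)))))) (BT.node 62 (BT.node 57 (BT.node 55 (BT.node 54 (BT.leaf 19342813113834066795298816) (BT.leaf 5192296858534827628530496329220096)) (BT.node 56 (BT.leaf 72057594037927936) (BT.leaf 4398046511104))) (BT.node 59 (BT.node 58 (BT.leaf 19342813113834066795298816) (BT.leaf 85070591730234615865843651857942052864)) (BT.node 60 (BT.leaf 22835963083295358096932575511191922182123945984) (BT.node 61 (BT.leaf 5192296858534827628530496329220096) (BT.leaf 22835963083295358096932575511191922182123945984))))) (BT.node 66 (BT.node 64 (BT.node 63 (BT.leaf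 22835963083295358096932575511191922182123945984) (BT.leaf 85070591730234615865843651857942052864)) (BT.node 65 (BT.leaf 316912650057057350374175801344) (BT.leaf 316912650057057350374175801344))) (BT.node 68 (BT.node 67 (BT.leaf 316912650057057350374175801344) (BT.leaf 1393796574908163946345982392040522594123776)) (BT.node 69 (BT.leaf 1393796574908163946345982392040522594123776) (BT.node 70 (BT.leaf 268435456) (BT.leaf 22835963083295358096932575511191922182123945984)))))))) (BT.node 107 (BT.node 89 (BT.node 80 (BT.node 75 (BT.node 73 (BT.node 72 (BT.leaf 85070591730234615865843651857942052864) (BT.leaf 316912650057057350374175801344)) (BT.node 74 (BT.leaf 316912650057057350374175801344) (BT.leaf 268435456))) (BT.node 77 (BT.node 76 (BT.leaf 0) (BT.leaf 19342813113834066795298816)) (BT.node 78 (BT.leaf 1180591620717411303424)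 (BT.node 79 (BT.leaf 85070591730234615865843651857942052864) (BT.leaf 1180591620717411303424))))) (BT.node 84 (BT.node 82 (BT.node 81 (BT.leaf 4398046511104) (BT.leaf 316912650057057350374175801344)) (BT.node 83 (BT.leaf 22835963083295358096932575511191922182123945984) (BT.leaf 85070591730234615865843651857942052864))) (BT.node 86 (BT.node 85 (BT.leaf 5192296858534827628530496329220096) (BT.leaf 4398046511104)) (BT.node 87 (BT.leaf 1393796574908163946345982392040522594123776) (BT.node 88 (BT.leaf 5192296858534827628530496329220096) (BT.leaf 1393796574908163946345982392040522594123776)))))) (BT.node 98 (BT.node 93 (BT.node 91 (BT.node 90 (BT.leaf 85070591730234615865843651857942052864) (BT.leaf 5192296858534827628530496329220096)) (BT.node 92 (BT.leaf 5192296858534827628530496329220096) (BT.leaf 19342813113834066795298816)))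 (BT.node 95 (BT.node 94 (BT.leaf 85070591730234615865843651857942052864) (BT.leaf 316912650057057350374175801344)) (BT.node 96 (BT.leaf 1) (BT.node 97 (BT.leaf 1) (BT.leaf 16384))))) (BT.node 102 (BT.node 100 (BT.node 99 (BT.leaf 72057594037927936) (BT.leaf 1180591620717411303424)) (BT.node 101 (BT.leaf 4398046511104) (BT.leaf 72057594037927936))) (BT.node 104 (BT.node 103 (BT.leaf 316912650057057350374175801344) (BT.leaf 19342813113834066795298816)) (BT.node 105 (BT.leaf 4398046511104) (BT.node 106 (BT.leaf 1393796574908163946345982392040522594123776) (BT.leaf 72057594037927936))))))) (BT.node 125 (BT.node 116 (BT.node 111 (BT.node 109 (BT.node 108 (BT.leaf 85070591730234615865843651857942052864) (BT.leaf 1393796574908163946345982392040522594123776)) (BT.node 110 (BT.leaf 85070591730234615865843651857942052864) (BT.leaf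 5192296858534827628530496329220096))) (BT.node 113 (BT.node 112 (BT.leaf 22835963083295358096932575511191922182123945984) (BT.leaf 85070591730234615865843651857942052864)) (BT.node 114 (BT.leaf 1) (BT.node 115 (BT.leaf 4398046511104) (BT.leaf 4398046511104))))) (BT.node 120 (BT.node 118 (BT.node 117 (BT.leaf 5192296858534827628530496329220096) (BT.leaf 85070591730234615865843651857942052864)) (BT.node 119 (BT.leaf 4398046511104) (BT.leaf 268435456))) (BT.node 122 (BT.node 121 (BT.leaf 22835963083295358096932575511191922182123945984) (BT.leaf 85070591730234615865843651857942052864)) (BT.node 123 (BT.leaf 1180591620717411303424) (BT.node 124 (BT.leaf 19342813113834066795298816) (BT.leaf 72057594037927936)))))) (BT.node 134 (BT.node 129 (BT.node 127 (BT.node 126 (BT.leaf 19342813113834066795298816) (BT.leaf 22835963083295358096932575511191922182123945984))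 (BT.node 128 (BT.leaf 85070591730234615865843651857942052864) (BT.leaf 5192296858534827628530496329220096))) (BT.node 131 (BT.node 130 (BT.leaf 5192296858534827628530496329220096) (BT.leaf 5192296858534827628530496329220096)) (BT.node 132 (BT.leaf 1393796574908163946345982392040522594123776) (BT.node 133 (BT.leaf 5192296858534827628530496329220096) (BT.leaf 19342813113834066795298816))))) (BT.node 138 (BT.node 136 (BT.node 135 (BT.leaf 268435456) (BT.leaf 268435456)) (BT.node 137 (BT.leaf 4398046511104) (BT.leaf 316912650057057350374175801344))) (BT.node 140 (BT.node 139 (BT.leaf 268435456) (BT.leaf 316912650057057350374175801344)) (BT.node 141 (BT.leaf 268435456) (BT.node 142 (BT.leaf 316912650057057350374175801344) (BT.leaf 268435456)))))))))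

/-- The heads of the rotated relators. -/
noncomputable def rotHT : BT := (BT.node 71 (BT.node 35 (BT.node 17 (BT.node 8 (BT.node 4 (BT.node 2 (BT.node 1 (BT.leaf 0) (BT.leaf 0)) (BT.node 3 (BT.leaf 0) (BT.leaf 0))) (BT.node 6 (BT.node 5 (BT.leaf 0) (BT.leaf 0)) (BT.node 7 (BT.leaf 0) (BT.leaf 0)))) (BT.node 12 (BT.node 10 (BT.node 9 (BT.leaf 0) (BT.leaf 0)) (BT.node 11 (BT.leaf 0) (BT.leaf 0))) (BT.node 14 (BT.node 13 (BT.leaf 0) (BT.leaf 0)) (BT.node 15 (BT.leaf 0) (BT.node 16 (BT.leaf 0) (BT.leaf 0)))))) (BT.node 26 (BT.node 21 (BT.node 19 (BT.node 18 (BT.leaf 0) (BT.leaf 0)) (BT.node 20 (BT.leaf 0) (BT.leaf 0))) (BT.node 23 (BT.node 22 (BT.leaf 0) (BT.leaf 0)) (BT.node 24 (BT.leaf 0) (BT.node 25 (BT.leaf 0) (BT.leaf 0))))) (BT.node 30 (BT.node 28 (BT.node 27 (BT.leaf 0) (BT.leaf 0)) (BT.node 29 (BT.leaf 0) (BT.leaf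 0))) (BT.node 32 (BT.node 31 (BT.leaf 0) (BT.leaf 0)) (BT.node 33 (BT.leaf 0) (BT.node 34 (BT.leaf 1) (BT.leaf 1))))))) (BT.node 53 (BT.node 44 (BT.node 39 (BT.node 37 (BT.node 36 (BT.leaf 1) (BT.leaf 1)) (BT.node 38 (BT.leaf 1) (BT.leaf 1))) (BT.node 41 (BT.node 40 (BT.leaf 1) (BT.leaf 1)) (BT.node 42 (BT.leaf 1) (BT.node 43 (BT.leaf 1) (BT.leaf 1))))) (BT.node 48 (BT.node 46 (BT.node 45 (BT.leaf 1) (BT.leaf 1)) (BT.node 47 (BT.leaf 1) (BT.leaf 1))) (BT.node 50 (BT.node 49 (BT.leaf 1) (BT.leaf 1)) (BT.node 51 (BT.leaf 1) (BT.node 52 (BT.leaf 1) (BT.leaf 1)))))) (BT.node 62 (BT.node 57 (BT.node 55 (BT.node 54 (BT.leaf 1) (BT.leaf 1)) (BT.node 56 (BT.leaf 1) (BT.leaf 1))) (BT.node 59 (BT.node 58 (BT.leaf 1) (BT.leaf 1)) (BT.node 60 (BT.leaf 1) (BT.node 61 (BT.leaf 1) (BT.leaf 1))))) (BT.node 66 (BT.node 64 (BT.node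 63 (BT.leaf 1) (BT.leaf 1)) (BT.node 65 (BT.leaf 1) (BT.leaf 1))) (BT.node 68 (BT.node 67 (BT.leaf 1) (BT.leaf 1)) (BT.node 69 (BT.leaf 1) (BT.node 70 (BT.leaf 1) (BT.leaf 1)))))))) (BT.node 107 (BT.node 89 (BT.node 80 (BT.node 75 (BT.node 73 (BT.node 72 (BT.leaf 1) (BT.leaf 1)) (BT.node 74 (BT.leaf 1) (BT.leaf 1))) (BT.node 77 (BT.node 76 (BT.leaf 2) (BT.leaf 2)) (BT.node 78 (BT.leaf 2) (BT.node 79 (BT.leaf 2) (BT.leaf 2))))) (BT.node 84 (BT.node 82 (BT.node 81 (BT.leaf 2) (BT.leaf 2)) (BT.node 83 (BT.leaf 2) (BT.leaf 2))) (BT.node 86 (BT.node 85 (BT.leaf 2) (BT.leaf 2)) (BT.node 87 (BT.leaf 2) (BT.node 88 (BT.leaf 2) (BT.leaf 2)))))) (BT.node 98 (BT.node 93 (BT.node 91 (BT.node 90 (BT.leaf 2) (BT.leaf 2)) (BT.node 92 (BT.leaf 2) (BT.leaf 2))) (BT.node 95 (BT.node 94 (BT.leaf 2) (BT.leaf 2)) (BT.node 96 (BT.leaf 3)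 (BT.node 97 (BT.leaf 3) (BT.leaf 3))))) (BT.node 102 (BT.node 100 (BT.node 99 (BT.leaf 3) (BT.leaf 3)) (BT.node 101 (BT.leaf 3) (BT.leaf 3))) (BT.node 104 (BT.node 103 (BT.leaf 3) (BT.leaf 3)) (BT.node 105 (BT.leaf 3) (BT.node 106 (BT.leaf 3) (BT.leaf 3))))))) (BT.node 125 (BT.node 116 (BT.node 111 (BT.node 109 (BT.node 108 (BT.leaf 3) (BT.leaf 3)) (BT.node 110 (BT.leaf 3) (BT.leaf 3))) (BT.node 113 (BT.node 112 (BT.leaf 3) (BT.leaf 3)) (BT.node 114 (BT.leaf 3) (BT.node 115 (BT.leaf 3) (BT.leaf 3))))) (BT.node 120 (BT.node 118 (BT.node 117 (BT.leaf 3) (BT.leaf 3)) (BT.node 119 (BT.leaf 3) (BT.leaf 3))) (BT.node 122 (BT.node 121 (BT.leaf 3) (BT.leaf 3)) (BT.node 123 (BT.leaf 3) (BT.node 124 (BT.leaf 3) (BT.leaf 3)))))) (BT.node 134 (BT.node 129 (BT.node 127 (BT.node 126 (BT.leaf 3) (BT.leaf 3)) (BT.node 128 (BT.leaf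 3) (BT.leaf 3))) (BT.node 131 (BT.node 130 (BT.leaf 3) (BT.leaf 3)) (BT.node 132 (BT.leaf 3) (BT.node 133 (BT.leaf 3) (BT.leaf 3))))) (BT.node 138 (BT.node 136 (BT.node 135 (BT.leaf 3) (BT.leaf 3)) (BT.node 137 (BT.leaf 3) (BT.leaf 3))) (BT.node 140 (BT.node 139 (BT.leaf 3) (BT.leaf 3)) (BT.node 141 (BT.leaf 3) (BT.node 142 (BT.leaf 3) (BT.leaf 3)))))))))

/-- The sources of the rotated relators: relator and rotation. -/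
def rotSrc : List (ℕ × ℕ) := [(0, 1), (2, 5), (9, 11), (8, 16), (11, 16), (10, 15), (5, 7), (7, 2), (7, 3), (11, 17), (8, 4), (10, 6), (6, 4), (11, 6), (13, 8), (4, 9), (8, 15), (12, 13), (10, 8), (10, 13), (8, 14), (4, 8), (9, 10), (11, 11), (12, 6), (4, 5), (4, 10), (11, 8), (9, 9), (8, 12), (4, 12), (9, 13), (9, 4), (2, 3), (3, 1), (2, 2), (5, 9), (9, 6), (10, 10), (8, 7), (5, 2), (6, 7), (8, 2), (5, 4), (5, 13), (5, 11), (8, 10), (10, 2), (7, 5), (7, 7), (8, 6), (5, 5), (6, 6), (8, 1), (10, 4), (6, 2), (5, 15), (8, 9), (11, 3), (13, 1), (10, 17), (13, 4), (13, 6), (11, 2), (9, 1), (9, 2), (9, 7), (12, 8), (12, 11), (4, 3), (13, 3), (11, 14), (9, 15), (9, 16), (4, 2), (1, 1), (8, 13), (7, 4), (11, 4), (7, 6), (5, 6), (9, 14), (13, 7), (11, 5), (10, 7), (5, 12), (12, 5), (10, 16), (12, 12), (11, 7), (10, 14), (10,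 9), (8, 5), (11, 15), (9, 5), (2, 1), (2, 4), (3, 0), (6, 1), (7, 1), (5, 0), (6, 5), (9, 8), (8, 3), (5, 14), (12, 1), (6, 3), (11, 9), (12, 7), (11, 0), (10, 0), (13, 0), (11, 12), (2, 6), (5, 1), (5, 3), (10, 5), (11, 10), (5, 10), (4, 1), (13, 5), (11, 13), (7, 8), (8, 8), (6, 8), (8, 11), (13, 2), (11, 1), (10, 12), (10, 1), (10, 3), (12, 9), (10, 11), (8, 0), (4, 11), (4, 6), (5, 8), (9, 0), (4, 4), (9, 3), (4, 0), (9, 12), (4, 7)]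

/-- The relators, as words of columns. -/
def relWords : List (List ℕ) := [[0, 0, 0, 0, 0], [2, 2, 2, 2, 2, 2, 2], [3, 3, 1, 1, 3, 0, 3, 3, 1, 1, 3, 0], [3, 1, 3, 1, 3, 1, 3, 1, 3, 1, 3, 1], [3, 3, 1, 1, 3, 0, 3, 3, 0, 0, 0, 3, 0], [3, 3, 1, 3, 1, 1, 2, 0, 3, 1, 3, 1, 2, 1, 3, 1], [3, 3, 1, 3, 0, 3, 1, 1, 3, 3, 1, 3, 0, 3, 1, 1], [3, 3, 0, 0, 2, 1, 2, 1, 3, 3, 0, 0, 2, 1, 2, 1], [3, 1, 1, 3, 0, 2, 1, 1, 3, 1, 1, 3, 0, 2, 0, 0, 0], [3, 1, 1, 3, 0, 2, 1, 1, 3, 0, 0, 0, 3, 0, 2, 1, 1], [3, 3, 1, 3, 1, 3, 0, 2, 0, 2, 1, 3, 3, 0, 2, 0, 2, 1], [3, 3, 1, 1, 2, 2, 0, 2, 0, 3, 3, 0, 3, 3, 1, 2, 0, 0], [3, 3, 1, 2, 0, 2, 0, 3, 1, 3, 3, 1, 2, 0, 2, 0, 3, 1], [3, 1, 3, 1, 1, 3, 1, 2, 0, 3, 1, 3, 1, 1, 3, 1, 2, 0]]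

/-- The labels of the relators. -/
def relLabs : List (List ℤ) := [[], [], [Int.ofNat 1], [Int.ofNat 0, Int.ofNat 1], [Int.ofNat 0, Int.ofNat 0, Int.ofNat 1], [Int.ofNat 0, Int.ofNat 0, Int.ofNat 0, Int.ofNat 1], [Int.ofNat 0, Int.ofNat 0, Int.ofNat 0, Int.ofNat 0, Int.ofNat 1], [Int.ofNat 0, Int.ofNat 0, Int.ofNat 0, Int.ofNat 0, Int.ofNat 0, Int.ofNat 1], [Int.ofNat 0, Int.ofNat 0, Int.ofNat 0, Int.ofNat 0, Int.ofNat 0, Int.ofNat 0, Int.ofNat 1], [Int.ofNat 0, Int.ofNat 0, Int.ofNat 0, Int.ofNat 0, Int.ofNat 0, Int.ofNat 0, Int.ofNat 0, Int.ofNat 1], [Int.ofNat 0, Int.ofNat 0, Int.ofNat 0, Int.ofNat 0, Int.ofNat 0, Int.ofNat 0, Int.ofNat 0, Int.ofNat 0, Int.ofNat 1], [Int.ofNat 0, Int.ofNat 0, Int.ofNat 0, Int.ofNat 0, Int.ofNat 0, Int.ofNat 0, Int.ofNat 0, Int.ofNat 0, Int.ofNat 0, Int.ofNat 1], [Int.ofNat 0, Int.ofNat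 0, Int.ofNat 0, Int.ofNat 0, Int.ofNat 0, Int.ofNat 0, Int.ofNat 0, Int.ofNat 0, Int.ofNat 0, Int.ofNat 0, Int.ofNat 1], [Int.ofNat 0, Int.ofNat 0, Int.ofNat 0, Int.ofNat 0, Int.ofNat 0, Int.ofNat 0, Int.ofNat 0, Int.ofNat 0, Int.ofNat 0, Int.ofNat 0, Int.ofNat 0, Int.ofNat 1]]

/-- The packed table. -/
noncomputable def ptab : PTab where
  k := 4
  n := 207360
  d := 12
  Tmax := 1658883
  w := 14
  B := 16384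
  G := 0x800200080020008002000800200080020008002000
  G2 := 0xff83fe0ff83fe0ff83fe0ff83fe0ff83fe0ff83fe0
  t2 := 9
  q := 144
  Q := 0x24009002400900240090024009002400900240090
  tau := fun c i => bget2 (BT.node 1024 (BT.node 512 tauT_0 tauT_1) (BT.node 1536 tauT_2 tauT_3)) 9 9 18 0x3ffff 511 c i
  stpS := fun c i => bget2 (BT.node 512 stpST_0 stpST_1) 9 9 21 0x1fffff 511 c i
  cerS := fun c i => bget2 cerST_0 8 10 11 0x7ff 1023 c i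
  labS := fun c i => bget2 (BT.node 4096 (BT.node 1620 (BT.node 810 (BT.node 405 labST_0 labST_1) (BT.node 1215 labST_2 labST_3)) (BT.node 2430 (BT.node 2025 labST_4 labST_5) (BT.node 2835 labST_6 labST_7))) (BT.node 5716 (BT.node 4906 (BT.node 4501 labST_8 labST_9) (BT.node 5311 labST_10 labST_11)) (BT.node 6526 (BT.node 6121 labST_12 labST_13) (BT.node 6931 labST_14 labST_15)))) 12 6 162 0x3ffffffffffffffffffffffffffffffffffffffff 63 c i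
  pn := fun i => bget pnT_0 9 18 0x3ffff 511 i
  pc := fun i => bget pcT_0 13 2 0x3 8191 i
  rk := fun i => i
  nrot := 143
  rotH := fun i => rotHT.get i
  rotB := fun i => rotBT.getF i
  rotAN := fun i => rotANT.get i
  hcols := [2]

theorem ptab_ok : ptab.OK where
  hB := by decide +kernel
  hG := by decide +kernel
  hG2 := by decide +kernel
  hw := by decide +kernel
  ht2 := by decide +kernel
  hq := by decide +kernel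
  hQ := by decide +kernel

/-- The table with unpacked labels. -/
noncomputable def tab : LTab := ptab.toLTab

end Cfsg.Agent.Helper9.TCData.S62P0
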